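import Cfsg.Agent.H688.Rg.Loc
import Cfsg.Agent.H826.RgF.Glue
import Cfsg.Agent.H655.Rg.KExt4
import Cfsg.Agent.H115.Rg.KExtEight
import Cfsg.Agent.H410.Rg.KTen
import Cfsg.Agent.H729.Rg.SixFin
import Cfsg.Agent.H997.Rg.Fam
import Cfsg.Agent.H884.ElRows

/-!
# S3691, reduction of the plus type: designated primes, `m` even (helper688)
-/

set_option autoImplicit false

namespace Cfsg.Agent.H688.Rg

open Module QuadraticMap Cfsg Cfsg.Geo Cfsg.Agent.LieClassical.OrthCore Cfsg.Agent.LieClassical.OrthTrans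
  Cfsg.Agent.H449.Reg Cfsg.Agent.H955 Cfsg.Agent.H954.TSing Cfsg.Agent.H884.El Cfsg.Agent.H826.RgF

section

variable {F : Type} [Field F] [Fintype F] {p f m r a : ℕ}

omit [Fintype F] in
theorem irr_of {V : Type} [AddCommGroup V] [Module F V] {A : Subgroup (V ≃ₗ[F] V)} (h : ¬ Rd A) :
    ∀ W : Submodule F V, (∀ a ∈ A, ∀ w ∈ W, a w ∈ W) → W = ⊥ ∨ W = ⊤ := by
  intro W hW
  by_contra hcon
  rw [not_or] at hcon
  exact h ⟨W, hcon.1, hcon.2, hW⟩

theorem kx_even (hP : H659.CovCore.S5948Stmt.{0}) (hm : Even m) (hm10 : 10 ≤ m) (hp : p.Prime)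
    (hF : Nat.card F = p ^ f) (hr : PP p (f * (2 * m - 2)) r) (hbig : 2 * (m - 1) + 1 < r ^ a)
    (hdvd : r ^ a ∣ (p ^ f) ^ (2 * m - 2) - 1) (b : ℕ) : KX F m (r ^ a) b := by
  intro V _ _ _ Q hQ hV A hA hirr hK ⟨g, hg, ho⟩ _
  rw [hF]
  exact H655.Rg.kext_even' hP hm hm10 hV hQ hA (irr_of hirr) hK hp (card_eq hF) hr hg ho hbig hdvd

theorem kx_eight (hp : p.Prime) (hF : Nat.card F = p ^ f) (hr : PP p (f * 14) r) (hbig : 29 < r ^ a)
    (hdvd : r ^ a ∣ (p ^ f) ^ 14 - 1) (b : ℕ) : KX F 8 (r ^ a) b := by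
  intro V _ _ _ Q hQ hV A hA hirr hK ⟨g, hg, ho⟩ _
  rw [hF]
  exact H115.Rg.kext_eight hV hQ hA (irr_of hirr) hK hp (card_eq hF) hr hg ho hbig hdvd

theorem kx_ten (hKS : ∀ (T : Type) [Group T] [Finite T] [IsSimpleGroup T], IsKnownSimple' T)
    (hF : Nat.card F = 2) : KX F 10 19 31 := by
  intro V _ _ _ Q hQ hV A hA hirr hK h19 h31
  rw [hF]
  exact H410.Rg.kext_ten hKS (by rw [← Nat.card_eq_fintype_card, hF]) hV hQ hA (irr_of hirr) hK (El.dvd h19) (El.dvd h31)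

theorem kx_six (h3 : 3 ≤ p ^ f) (hp : p.Prime) (hF : Nat.card F = p ^ f) (hr : PP p (f * 10) r) (hbig : 21 < r ^ a)
    (hdvd : r ^ a ∣ (p ^ f) ^ 10 - 1) : KX6 F (r ^ a) := by
  intro V _ _ _ Q hQ hV A hA hirr hK ⟨g, hg, ho⟩
  rw [hF]
  exact H729.Rg.kext_six h3 hV hQ hA (irr_of hirr) hK hp (card_eq hF) hr hg ho hbig hdvd

/-- the list lemmas for two designated prime powers, the first one big -/
theorem dc_left (hP : H659.CovCore.S5948Stmt.{0}) (hp : p.Prime) (hf : 1 ≤ f) (hF : Nat.card F = p ^ f) (hm : 6 ≤ m)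
    {r2 i r4 j : ℕ} (h2 : Bg p f (2 * m - 2) r2 i) (h4 : PP p (f * (2 * m - 4)) r4) (hj : 1 ≤ j)
    (hd : r4 ^ j ∣ (p ^ f) ^ (2 * m - 4) - 1) : Dc F p f m r2 i r4 j where
  pp2 := h2.pp
  pos2 := h2.pos
  dvd2 := h2.dvd
  pp4 := h4
  pos4 := hj
  dvd4 := hd
  lb := h2.lb hP hp hf hF (by omega) (by omega) (by omega) _
  lb2 := h2.lb hP hp hf hF (by omega) (by omega) (by omega) _
  lb1 := fun _ => h2.lb hP hp hf hF (by omega) (by omega) (by omega) _
  lbs := fun h0 => h2.lbs hP hp hf hF h0 (by omega) (by omega) (by omega) _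

/-- the list lemmas for two designated prime powers, the second one big -/
theorem dc_right (hP : H659.CovCore.S5948Stmt.{0}) (hp : p.Prime) (hf : 1 ≤ f) (hF : Nat.card F = p ^ f) (hm : 6 ≤ m)
    {r2 i r4 j : ℕ} (h2 : PP p (f * (2 * m - 2)) r2) (hi : 1 ≤ i) (hd : r2 ^ i ∣ (p ^ f) ^ (2 * m - 2) - 1)
    (h4 : Bg p f (2 * m - 4) r4 j) : Dc F p f m r2 i r4 j where
  pp2 := h2
  pos2 := hi
  dvd2 := hd
  pp4 := h4.pp
  pos4 := h4.pos
  dvd4 := h4.dvd
  lb := LB.symm (h4.lb hP hp hf hF (by omega) (by omega) (by omega) _)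
  lb2 := LB.symm (h4.lb hP hp hf hF (by omega) (by omega) (by omega) _)
  lb1 := fun _ => LB.symm (h4.lb hP hp hf hF (by omega) (by omega) (by omega) _)
  lbs := fun h0 => LBS.symm (h4.lbs hP hp hf hF h0 (by omega) (by omega) (by omega) _)

end

theorem ord_2_127 : orderOf ((2 : ℕ) : ZMod 127) = 7 := by
  have : Fact (Nat.Prime 7) := ⟨by norm_num⟩
  exact orderOf_eq_prime (by decide +kernel) (by decide +kernel)

theorem ord_2_31 : orderOf ((2 : ℕ) : ZMod 31) = 5 := by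
  have : Fact (Nat.Prime 5) := ⟨by norm_num⟩
  exact orderOf_eq_prime (by decide +kernel) (by decide +kernel)

theorem ord_2_89 : orderOf ((2 : ℕ) : ZMod 89) = 11 := by
  have : Fact (Nat.Prime 11) := ⟨by norm_num⟩
  exact orderOf_eq_prime (by decide +kernel) (by decide +kernel)

theorem ord_2_73 : orderOf ((2 : ℕ) : ZMod 73) = 9 := by
  have : Fact (Nat.Prime 3) := ⟨by norm_num⟩
  exact orderOf_eq_prime_pow (n := 1) (p := 3) (by decide +kernel) (by decide +kernel)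

theorem ord_3_757 : orderOf ((3 : ℕ) : ZMod 757) = 9 := by
  have : Fact (Nat.Prime 3) := ⟨by norm_num⟩
  exact orderOf_eq_prime_pow (n := 1) (p := 3) (by decide +kernel) (by decide +kernel)

theorem two_zero {F : Type} [Field F] [Fintype F] (h : Nat.card F = 2) : (2 : F) = 0 := by
  have h1 := FiniteField.cast_card_eq_zero F
  rw [← Nat.card_eq_fintype_card, h] at h1
  exact_mod_cast h1

theorem two_ne {F : Type} [Field F] [Fintype F] (h : Nat.card F = 3) : (2 : F) ≠ 0 := by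
  have h1 := FiniteField.cast_card_eq_zero F
  rw [← Nat.card_eq_fintype_card, h] at h1
  intro h2
  have h3 : (1 : F) = ((3 : ℕ) : F) - 2 := by norm_num
  rw [h1, h2, sub_zero] at h3
  exact one_ne_zero h3

section

variable {F : Type} [Field F] [Fintype F]

theorem dev_two_eight (hP : H659.CovCore.S5948Stmt.{0})
    (hKS : ∀ (T : Type) [Group T] [Finite T] [IsSimpleGroup T], IsKnownSimple' T) (hF : Nat.card F = 2 ^ 1) :
    ∃ r2 i r4 j w b c, DEv F 2 1 8 r2 i r4 j w b c := by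
  have hp := Nat.prime_two
  obtain ⟨r, a, hr⟩ := exists_bg (p := 2) (f := 1) (k := 14) hp le_rfl (by norm_num) (by decide)
  have hq : Nat.card F = 2 := by rw [hF, pow_one]
  have h0 := two_zero hq
  have hlo : ∀ {n}, 10 ≤ n → 14 ≤ n → n < 28 → ∀ b, LO F n 14 (r ^ a) b := fun h1 h2 h3 b =>
    hr.lo hP hp le_rfl hF h1 h2 h3 b
  refine ⟨r, a, 13, 1, 127, 1, 31, ⟨?_, fun h => by omega, ref_lo hKS (by decide) hq, fun h => absurd h0 h,
    fun _ => ref_ls hKS h0 (by decide) hq, fun h => absurd h0 h,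
    fun _ => hr.ls hP hp le_rfl hF h0 (by norm_num) (by norm_num) (by norm_num) _⟩⟩
  exact ⟨dc_left hP hp le_rfl hF (by norm_num) hr ⟨by norm_num, H2.Rb.ord_2_13⟩ le_rfl (by norm_num),
    ⟨by norm_num, ord_2_127⟩, hlo (by norm_num) (by norm_num) (by norm_num) _,
    ref_lo hKS (by decide) hq, Or.inl rfl, hlo (by norm_num) (by norm_num) (by norm_num) _,
    Or.inr ⟨by norm_num, ord_2_31⟩, ref_lo hKS (by decide) hq,
    fun _ => kx_eight hp hF hr.pp (by have := hr.big; omega) hr.dvd _, fun h => by omega⟩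

theorem dev_two_ten (hP : H659.CovCore.S5948Stmt.{0})
    (hKS : ∀ (T : Type) [Group T] [Finite T] [IsSimpleGroup T], IsKnownSimple' T) (hF : Nat.card F = 2 ^ 1) :
    ∃ r2 i r4 j w b c, DEv F 2 1 10 r2 i r4 j w b c := by
  have hp := Nat.prime_two
  obtain ⟨r, a, hr⟩ := exists_bg (p := 2) (f := 1) (k := 16) hp le_rfl (by norm_num) (by decide)
  have hq : Nat.card F = 2 := by rw [hF, pow_one]
  have h0 := two_zero hq
  have hlo : ∀ {n}, 10 ≤ n → 16 ≤ n → n < 32 → ∀ b, LO F n 16 (r ^ a) b := fun h1 h2 h3 b =>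
    hr.lo hP hp le_rfl hF h1 h2 h3 b
  refine ⟨19, 1, r, a, 73, 31, 1, ⟨?_, fun h => by omega, hlo (by norm_num) (by norm_num) (by norm_num) _,
    fun h => absurd h0 h, fun _ => hr.ls hP hp le_rfl hF h0 (by norm_num) (by norm_num) (by norm_num) _,
    fun h => absurd h0 h, fun _ => ref_ls hKS h0 (by decide) hq⟩⟩
  exact ⟨dc_right hP hp le_rfl hF (by norm_num) ⟨by norm_num, H2.Rb.ord_2_19⟩ le_rfl (by norm_num) hr,
    ⟨by norm_num, ord_2_73⟩, ref_lo hKS (by decide) hq, hlo (by norm_num) (by norm_num) (by norm_num) _,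
    Or.inr ⟨by norm_num, by norm_num, by norm_num, rfl, by norm_num, rfl⟩, ref_lo hKS (by decide) hq,
    Or.inl rfl, hlo (by norm_num) (by norm_num) (by norm_num) _, fun _ => kx_ten hKS hq, fun h => by omega⟩

theorem dev_three_ten (hP : H659.CovCore.S5948Stmt.{0})
    (hKS : ∀ (T : Type) [Group T] [Finite T] [IsSimpleGroup T], IsKnownSimple' T) (hF : Nat.card F = 3 ^ 1) :
    ∃ r2 i r4 j w b c, DEv F 3 1 10 r2 i r4 j w b c := by
  have hp := Nat.prime_three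
  obtain ⟨r, a, hr⟩ := exists_bg (p := 3) (f := 1) (k := 16) hp le_rfl (by norm_num) (by decide)
  have hq : Nat.card F = 3 := by rw [hF, pow_one]
  have h0 := two_ne hq
  have hlo : ∀ {n}, 10 ≤ n → 16 ≤ n → n < 32 → ∀ b, LO F n 16 (r ^ a) b := fun h1 h2 h3 b =>
    hr.lo hP hp le_rfl hF h1 h2 h3 b
  refine ⟨37, 1, r, a, 757, 61, 1, ⟨?_, fun h => by omega, hlo (by norm_num) (by norm_num) (by norm_num) _,
    fun _ => hlo (by norm_num) (by norm_num) (by norm_num) _, fun h => absurd h h0,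
    fun _ => ref_lo hKS (by decide) hq, fun h => absurd h h0⟩⟩
  exact ⟨dc_right hP hp le_rfl hF (by norm_num) ⟨by norm_num, H2.Rb.ord_3_37⟩ le_rfl (by norm_num) hr,
    ⟨by norm_num, ord_3_757⟩, ref_lo hKS (by decide) hq, hlo (by norm_num) (by norm_num) (by norm_num) _,
    Or.inr ⟨by norm_num, by norm_num, by norm_num, rfl, by norm_num, rfl⟩, ref_lo hKS (by decide) hq,
    Or.inl rfl, hlo (by norm_num) (by norm_num) (by norm_num) _,
    fun _ => kx_even hP ⟨5, rfl⟩ le_rfl hp hF ⟨by norm_num, H2.Rb.ord_3_37⟩ (by norm_num) (by norm_num) _,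
    fun h => by omega⟩

theorem dev_two_twelve (hP : H659.CovCore.S5948Stmt.{0})
    (hKS : ∀ (T : Type) [Group T] [Finite T] [IsSimpleGroup T], IsKnownSimple' T) (hF : Nat.card F = 2 ^ 1) :
    ∃ r2 i r4 j w b c, DEv F 2 1 12 r2 i r4 j w b c := by
  have hp := Nat.prime_two
  obtain ⟨r, a, hr⟩ := exists_bg (p := 2) (f := 1) (k := 22) hp le_rfl (by norm_num) (by decide)
  have hq : Nat.card F = 2 := by rw [hF, pow_one]
  have h0 := two_zero hq
  have hlo : ∀ {n}, 10 ≤ n → 22 ≤ n → n < 44 → ∀ b, LO F n 22 (r ^ a) b := fun h1 h2 h3 b =>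
    hr.lo hP hp le_rfl hF h1 h2 h3 b
  refine ⟨r, a, 41, 1, 89, 1, 73, ⟨?_, fun h => by omega, ref_lo hKS (by decide) hq, fun h => absurd h0 h,
    fun _ => ref_ls hKS h0 (by decide) hq, fun h => absurd h0 h,
    fun _ => hr.ls hP hp le_rfl hF h0 (by norm_num) (by norm_num) (by norm_num) _⟩⟩
  exact ⟨dc_left hP hp le_rfl hF (by norm_num) hr ⟨by norm_num, H2.Rb.ord_2_41⟩ le_rfl (by norm_num),
    ⟨by norm_num, ord_2_89⟩, hlo (by norm_num) (by norm_num) (by norm_num) _,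
    ref_lo hKS (by decide) hq, Or.inl rfl, hlo (by norm_num) (by norm_num) (by norm_num) _,
    Or.inr ⟨by norm_num, ord_2_73⟩, ref_lo hKS (by decide) hq,
    fun _ => kx_even hP ⟨6, rfl⟩ (by norm_num) hp hF hr.pp (by have := hr.big; omega) hr.dvd _, fun h => by omega⟩

end

/-- **designated primes, `m` even** -/
theorem exists_dev (hP : H659.CovCore.S5948Stmt.{0})
    (hKS : ∀ (T : Type) [Group T] [Finite T] [IsSimpleGroup T], IsKnownSimple' T)
    {F : Type} [Field F] [Fintype F] {p f m : ℕ} (hp : p.Prime) (hf : 1 ≤ f) (hF : Nat.card F = p ^ f) (hm : 6 ≤ m)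
    (heven : Even m) (hS : H997.Rg.SzM m (p ^ f)) : ∃ r2 i r4 j w b c, DEv F p f m r2 i r4 j w b c := by
  obtain ⟨k, hk⟩ := heven
  have hq3 : m ≤ 7 → 3 ≤ p ^ f := fun h => by have := hS.2.2 h; omega
  -- the case `m = 6`
  have hm6 : m = 6 → ¬ (p = 2 ∧ f = 1) := by
    rintro h6 ⟨rfl, rfl⟩
    have := hq3 (by omega)
    norm_num at this
  by_cases h8 : p = 2 ∧ f = 1 ∧ m = 8
  · obtain ⟨rfl, rfl, rfl⟩ := h8
    exact dev_two_eight hP hKS hF
  by_cases h10 : p = 2 ∧ f = 1 ∧ m = 10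
  · obtain ⟨rfl, rfl, rfl⟩ := h10
    exact dev_two_ten hP hKS hF
  by_cases h310 : p = 3 ∧ f = 1 ∧ m = 10
  · obtain ⟨rfl, rfl, rfl⟩ := h310
    exact dev_three_ten hP hKS hF
  by_cases h12 : p = 2 ∧ f = 1 ∧ m = 12
  · obtain ⟨rfl, rfl, rfl⟩ := h12
    exact dev_two_twelve hP hKS hF
  -- generic
  obtain ⟨r2, i, hr2⟩ : ∃ r a, Bg p f (2 * m - 2) r a := by
    apply exists_bg hp hf (by omega)
    intro h
    simp only [List.mem_cons, Prod.mk.injEq, List.not_mem_nil, or_false] at h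
    omega
  obtain ⟨r4, j, hr4⟩ : ∃ r a, Bg p f (2 * m - 4) r a := by
    apply exists_bg hp hf (by omega)
    intro h
    simp only [List.mem_cons, Prod.mk.injEq, List.not_mem_nil, or_false] at h
    omega
  obtain ⟨w, hw⟩ := exists_ppp (e := m - 1) hp hf (by omega) (by omega) (fun b hb h => by
    have h1 : 2 ≤ b := hb
    have := Nat.mul_le_mul h1 (show 5 ≤ m - 1 by omega)
    omega)
  have l2 : ∀ {n}, 10 ≤ n → 2 * m - 2 ≤ n → n < 2 * (2 * m - 2) → ∀ b, LO F n (2 * m - 2) (r2 ^ i) b :=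
    fun h1 h2 h3 b => hr2.lo hP hp hf hF h1 h2 h3 b
  have l4 : ∀ {n}, 10 ≤ n → 2 * m - 4 ≤ n → n < 2 * (2 * m - 4) → ∀ b, LO F n (2 * m - 4) (r4 ^ j) b :=
    fun h1 h2 h3 b => hr4.lo hP hp hf hF h1 h2 h3 b
  refine ⟨r2, i, r4, j, w, 1, 1, ⟨?_, fun _ => rfl, l4 (by omega) (by omega) (by omega) _,
    fun _ => l4 (by omega) (by omega) (by omega) _,
    fun h0 => hr4.ls hP hp hf hF h0 (by omega) (by omega) (by omega) _,
    fun _ => l2 (by omega) (by omega) (by omega) _,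
    fun h0 => hr2.ls hP hp hf hF h0 (by omega) (by omega) (by omega) _⟩⟩
  refine ⟨dc_left hP hp hf hF hm hr2 hr4.pp hr4.pos hr4.dvd, hw, l2 (by omega) (by omega) (by omega) _,
    l4 (by omega) (by omega) (by omega) _, Or.inl rfl, l2 (by omega) (by omega) (by omega) _, Or.inl rfl,
    l4 (by omega) (by omega) (by omega) _, fun h => ?_, fun h => ?_⟩
  · rcases (by omega : m = 8 ∨ 10 ≤ m) with rfl | h10'
    · exact kx_eight hp hF hr2.pp (by have := hr2.big; omega) hr2.dvd _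
    · exact kx_even hP ⟨k, hk⟩ h10' hp hF hr2.pp (by have := hr2.big; omega) hr2.dvd _
  · subst h
    exact kx_six (hq3 (by norm_num)) hp hF hr2.pp (by have := hr2.big; omega) hr2.dvd

end Cfsg.Agent.H688.Rg
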