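import Cfsg.Agent.H826.RgF.Data
import Cfsg.Agent.H128.Rg.RefAbs
import Cfsg.Agent.H951.Rl.BigN

/-!
# S3691, reduction of the plus type: designated primes, list lemmas from big prime powers and from the single cases (helper688)
-/

set_option autoImplicit false

namespace Cfsg.Agent.H688.Rg

open Module QuadraticMap Cfsg Cfsg.Geo Cfsg.Agent.LieClassical.OrthCore Cfsg.Agent.LieClassical.OrthTrans
  Cfsg.Agent.H449.Reg Cfsg.Agent.H955 Cfsg.Agent.H954.TSing Cfsg.Agent.H884.El Cfsg.Agent.H826.RgF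

/-- a big prime power, in the form used here -/
structure Bg (p f k r a : ℕ) : Prop where
  pp : PP p (f * k) r
  dvd : r ^ a ∣ (p ^ f) ^ k - 1
  big : 2 * k + 1 < r ^ a

theorem Bg.pos {p f k r a : ℕ} (h : Bg p f k r a) : 1 ≤ a := by
  rcases Nat.eq_zero_or_pos a with rfl | h1
  · have := h.big
    rw [pow_zero] at this
    omega
  · exact h1

theorem exists_bg {p f k : ℕ} (hp : p.Prime) (hf : 1 ≤ f) (hk : 6 ≤ k)
    (hex : (p, f, k) ∉ [(2, 1, 6), (2, 1, 8), (2, 1, 10), (2, 1, 12), (2, 1, 18), (2, 1, 20), (3, 1, 6), (3, 1, 18),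
      (5, 1, 6), (17, 1, 6), (2, 2, 6), (2, 2, 9)]) : ∃ r a, Bg p f k r a := by
  obtain ⟨r, h⟩ := H951.Rl.exists_big hp hf hk hex
  exact ⟨r, _, ⟨h.prime, h.ord⟩, h.dvd, h.big⟩

section

variable {F : Type} [Field F] [Fintype F] {p f k n r a : ℕ}

omit [Field F] in
theorem card_eq (hF : Nat.card F = p ^ f) : Fintype.card F = p ^ f := by
  rw [← Nat.card_eq_fintype_card, hF]

theorem Bg.num (h : Bg p f k r a) (hp : p.Prime) (hf : 1 ≤ f) (hn : 10 ≤ n) (hkn : k ≤ n) (hk : n < 2 * k) :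
    Cfsg.Agent.H278.Cov.Num (p ^ f) n k (r ^ a) := num_of hp hf h.pp hn hkn hk h.big h.dvd

/-- the list lemma from a big prime power -/
theorem Bg.lo (h : Bg p f k r a) (hP : H659.CovCore.S5948Stmt.{0}) (hp : p.Prime) (hf : 1 ≤ f)
    (hF : Nat.card F = p ^ f) (hn : 10 ≤ n) (hkn : k ≤ n) (hk : n < 2 * k) (b : ℕ) : LO F n k (r ^ a) b := by
  intro V _ _ _ Q hQ hV A hA ⟨g, hg, ho⟩ _
  have := og_abs hP hQ hA hg (k := k) (by rw [card_eq hF, hV, ho]; exact h.num hp hf hn hkn hk)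
  rw [hV] at this
  exact this

/-- the list lemma from a big prime power, symplectic -/
theorem Bg.ls (h : Bg p f k r a) (hP : H659.CovCore.S5948Stmt.{0}) (hp : p.Prime) (hf : 1 ≤ f)
    (hF : Nat.card F = p ^ f) (h2 : (2 : F) = 0) (hn : 10 ≤ n) (hkn : k ≤ n) (hk : n < 2 * k) (b : ℕ) :
    LS F n k (r ^ a) b := by
  intro V _ _ _ Q hQ hV A hA ⟨g, hg, ho⟩ _
  have := H128.Rg.sp_abs hP h2 hQ hA hg (k := k) (by rw [card_eq hF, hV, ho]; exact h.num hp hf hn hkn hk)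
  rw [hV] at this
  exact this

theorem Bg.lb (h : Bg p f k r a) (hP : H659.CovCore.S5948Stmt.{0}) (hp : p.Prime) (hf : 1 ≤ f)
    (hF : Nat.card F = p ^ f) (hn : 10 ≤ n) (hkn : k ≤ n) (hk : n < 2 * k) (b : ℕ) : LB F n (r ^ a) b :=
  LO.lb (h.lo hP hp hf hF hn hkn hk b)

theorem Bg.lbs (h : Bg p f k r a) (hP : H659.CovCore.S5948Stmt.{0}) (hp : p.Prime) (hf : 1 ≤ f)
    (hF : Nat.card F = p ^ f) (h2 : (2 : F) = 0) (hn : 10 ≤ n) (hkn : k ≤ n) (hk : n < 2 * k) (b : ℕ) :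
    LBS F n (r ^ a) b := LS.lb (h.ls hP hp hf hF h2 hn hkn hk b)

omit [Fintype F] in
theorem El.dvd {V : Type} [AddCommGroup V] [Module F V] [FiniteDimensional F V] {A : Subgroup (V ≃ₗ[F] V)} {a : ℕ}
    (h : El A a) : a ∣ Nat.card A := by
  obtain ⟨g, hg, ho⟩ := h
  rw [← ho, ← Subgroup.orderOf_mk g hg]
  exact orderOf_dvd_natCard _

/-- the list lemma from a refined single case -/
theorem ref_lo (hKS : ∀ (T : Type) [Group T] [Finite T] [IsSimpleGroup T], IsKnownSimple' T) {q n k r l : ℕ}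
    (hm : (q, n, k, r, l) ∈ H2.Rb.refList) (hq : Nat.card F = q) : LO F n k r l := by
  intro V _ _ _ Q hQ hV A hA ha hb
  exact H128.Rg.ref_abs hKS hQ hA hm hq hV (El.dvd ha) (El.dvd hb)

/-- the list lemma from a refined single case, symplectic -/
theorem ref_ls (hKS : ∀ (T : Type) [Group T] [Finite T] [IsSimpleGroup T], IsKnownSimple' T) {q n k r l : ℕ}
    (h2 : (2 : F) = 0) (hm : (q, n, k, r, l) ∈ H2.Rb.refList) (hq : Nat.card F = q) : LS F n k r l := by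
  intro V _ _ _ Q hQ hV A hA ha hb
  exact H128.Rg.ref_sp hKS h2 hQ hA hm hq hV (El.dvd ha) (El.dvd hb)

end

end Cfsg.Agent.H688.Rg
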